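import Groth.Agent.Lib.PicAff14.Basic
import Groth.Agent.Lib.PicCoc15.Basic
import Groth.Agent.Lib.Pic18.Semilocal
import Groth.Agent.Lib.ParaFDesc27.PicDescent
import Groth.Agent.Lib.PicDesc21.Frame
import Mathlib.Algebra.MvPolynomial.Nilpotent
import Mathlib.RingTheory.Localization.Free
import Mathlib.RingTheory.MvPolynomial.Localization
import Groth.Agent.Lib.PicDesc21.Frame
import Mathlib.AlgebraicGeometry.AffineSpace

/-!
# Invertible modules on affine space over a reduced scheme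
-/

set_option autoImplicit false
set_option linter.style.haveILetI false
set_option backward.isDefEq.respectTransparency false
set_option backward.isDefEq.respectTransparency.types false

universe u

open CategoryTheory CategoryTheory.Limits AlgebraicGeometry TopologicalSpace Opposite TensorProduct

noncomputable section

namespace Groth.Agent.PicAffSp12

open Groth.Agent.M1

variable {σ : Type u} {R : Type u} [CommRing R]

/-- Freeness over the polynomial ring of a localisation spreads out. -/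
theorem exists_away (p : Ideal R) [p.IsPrime] {Rp : Type u} [CommRing Rp] [Algebra R Rp]
    [IsLocalization.AtPrime Rp p] {P : Type u} [AddCommGroup P] [Module (MvPolynomial σ R) P]
    [Module.Invertible (MvPolynomial σ R) P]
    (h : letI := (MvPolynomial.map (σ := σ) (algebraMap R Rp)).toAlgebra
      Nonempty (MvPolynomial σ Rp ⊗[MvPolynomial σ R] P ≃ₗ[MvPolynomial σ Rp] MvPolynomial σ Rp)) :
    ∃ f ∉ p, ∀ (A : Type u) [CommRing A] [Algebra (MvPolynomial σ R) A]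
      [IsLocalization.Away (MvPolynomial.C f : MvPolynomial σ R) A],
      Nonempty (A ⊗[MvPolynomial σ R] P ≃ₗ[A] A) := by
  letI := (MvPolynomial.map (σ := σ) (algebraMap R Rp)).toAlgebra
  haveI : Nontrivial Rp := IsLocalization.AtPrime.nontrivial Rp p
  haveI : IsLocalization (p.primeCompl.map (MvPolynomial.C (σ := σ))) (MvPolynomial σ Rp) :=
    MvPolynomial.isLocalization (σ := σ) p.primeCompl Rp
  let g := TensorProduct.mk (MvPolynomial σ R) (MvPolynomial σ Rp) P 1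
  haveI : IsLocalizedModule (p.primeCompl.map (MvPolynomial.C (σ := σ))) g :=
    (isLocalizedModule_iff_isBaseChange _ (MvPolynomial σ Rp) g).2 (TensorProduct.isBaseChange _ _ _)
  obtain ⟨e⟩ := h
  haveI : Module.Free (MvPolynomial σ Rp) (MvPolynomial σ Rp ⊗[MvPolynomial σ R] P) :=
    Module.Free.of_equiv e.symm
  haveI : Module.FinitePresentation (MvPolynomial σ R) P := Module.finitePresentation_of_projective _ _
  obtain ⟨_, ⟨f, hf, rfl⟩, hfree, -⟩ := Module.FinitePresentation.exists_free_localizedModule_powers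
    (p.primeCompl.map (MvPolynomial.C (σ := σ))) g (MvPolynomial σ Rp)
  refine ⟨f, hf, fun A _ _ _ => Module.Invertible.free_iff_linearEquiv.1 ?_⟩
  let Lc := Localization (Submonoid.powers (MvPolynomial.C f : MvPolynomial σ R))
  haveI : Module.Free Lc (Lc ⊗[MvPolynomial σ R] P) :=
    Module.Free.of_equiv (LocalizedModule.equivTensorProduct _ P)
  let q := IsLocalization.algEquiv (Submonoid.powers (MvPolynomial.C f : MvPolynomial σ R)) Lc A
  letI : Algebra Lc A := q.toRingEquiv.toRingHom.toAlgebra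
  haveI : IsScalarTower (MvPolynomial σ R) Lc A := IsScalarTower.of_algebraMap_eq fun x => (q.commutes x).symm
  exact Module.Free.of_equiv (TensorProduct.AlgebraTensorModule.cancelBaseChange (MvPolynomial σ R) Lc A A P)

variable {X : Scheme.{u}}

variable (σ X) in
/-- The projection of affine space. -/
abbrev pr : AffineSpace σ X ⟶ X := AffineSpace σ X ↘ X

instance map_isOpenImmersion {S : Scheme.{u}} (f : S ⟶ X) [IsOpenImmersion f] :
    IsOpenImmersion (AffineSpace.map σ f) :=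
  MorphismProperty.of_isPullback (AffineSpace.isPullback_map f).flip (inferInstance : IsOpenImmersion f)

/-- The chart of affine space over an affine open. -/
def chart {U : X.Opens} (hU : IsAffineOpen U) : Spec (.of (MvPolynomial σ Γ(X, U))) ⟶ AffineSpace σ X :=
  (AffineSpace.SpecIso σ Γ(X, U)).inv ≫ AffineSpace.map σ hU.fromSpec

instance {U : X.Opens} (hU : IsAffineOpen U) : IsOpenImmersion (chart (σ := σ) hU) := by
  delta chart; infer_instance

theorem chart_over {U : X.Opens} (hU : IsAffineOpen U) :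
    chart (σ := σ) hU ≫ (pr σ X) = Spec.map (CommRingCat.ofHom MvPolynomial.C) ≫ hU.fromSpec := by
  rw [chart, Category.assoc, AffineSpace.map_over, AffineSpace.SpecIso_inv_over_assoc]

theorem opensRange_chart {U : X.Opens} (hU : IsAffineOpen U) :
    (chart (σ := σ) hU).opensRange = (pr σ X) ⁻¹ᵁ U := by
  delta chart
  rw [Scheme.Hom.opensRange_comp_of_isIso]
  ext z
  constructor
  · rintro ⟨w, rfl⟩
    show (pr σ X) (AffineSpace.map σ hU.fromSpec w) ∈ U
    rw [← Scheme.Hom.comp_apply, AffineSpace.map_over, Scheme.Hom.comp_apply]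
    exact hU.range_fromSpec.subset ⟨_, rfl⟩
  · intro hz
    obtain ⟨y, hy⟩ := hU.range_fromSpec.superset hz
    have sq := AffineSpace.isPullback_map (n := σ) hU.fromSpec
    obtain ⟨w, hw, -⟩ := Scheme.Pullback.exists_preimage_pullback (f := (pr σ X)) (g := hU.fromSpec) z y hy.symm
    refine ⟨sq.isoPullback.inv w, ?_⟩
    rw [← Scheme.Hom.comp_apply, IsPullback.isoPullback_inv_fst]
    exact hw

theorem appLE_chart_injective {U : X.Opens} (hU : IsAffineOpen U) :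
    Function.Injective ((chart (σ := σ) hU).appLE ((pr σ X) ⁻¹ᵁ U) ⊤ (by rw [← opensRange_chart hU]; simp)) := by
  haveI := (chart (σ := σ) hU).isIso_app ((pr σ X) ⁻¹ᵁ U) (opensRange_chart hU).ge
  haveI : IsIso ((chart (σ := σ) hU).appLE ((pr σ X) ⁻¹ᵁ U) ⊤ (by rw [← opensRange_chart hU]; simp)) := by
    rw [Scheme.Hom.appLE, show homOfLE _ = eqToHom (by rw [← opensRange_chart hU]; simp) from Subsingleton.elim _ _]
    infer_instance
  exact ((ConcreteCategory.isIso_iff_bijective _).1 this).1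

theorem exists_const [IsReduced X] {U : X.Opens} (hU : IsAffineOpen U) {t : Γ(AffineSpace σ X, (pr σ X) ⁻¹ᵁ U)}
    (ht : IsUnit t) : ∃ a : Γ(X, U), (pr σ X).app U a = t := by
  have e : (⊤ : (Spec (.of (MvPolynomial σ Γ(X, U)))).Opens) ≤ chart hU ⁻¹ᵁ ((pr σ X) ⁻¹ᵁ U) := by
    rw [← opensRange_chart hU]; simp
  let w := (Scheme.ΓSpecIso (.of (MvPolynomial σ Γ(X, U)))).hom ((chart hU).appLE ((pr σ X) ⁻¹ᵁ U) ⊤ e t)
  have hw : IsUnit w := (ht.map _).map (Scheme.ΓSpecIso (.of (MvPolynomial σ Γ(X, U)))).hom.hom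
  obtain ⟨r, -, hr⟩ := MvPolynomial.isUnit_iff_eq_C_of_isReduced.1 hw
  refine ⟨r, appLE_chart_injective hU ?_⟩
  have h2 : (pr σ X).app U ≫ (chart hU).appLE ((pr σ X) ⁻¹ᵁ U) ⊤ e =
      CommRingCat.ofHom MvPolynomial.C ≫ (Scheme.ΓSpecIso (.of (MvPolynomial σ Γ(X, U)))).inv := by
    rw [Scheme.Hom.app_eq_appLE, Scheme.Hom.appLE_comp_appLE]
    simp only [chart_over]
    have e' : (⊤ : (Spec Γ(X, U)).Opens) ≤ hU.fromSpec ⁻¹ᵁ U := hU.fromSpec_preimage_self.ge
    have h3 : hU.fromSpec.appLE U ⊤ e' = (Scheme.ΓSpecIso Γ(X, U)).inv := by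
      rw [Scheme.Hom.appLE, hU.fromSpec_app_self, Category.assoc, ← Functor.map_comp]
      exact (congrArg (_ ≫ ·) ((Spec Γ(X, U)).presheaf.map_id _)).trans (Category.comp_id _)
    rw [← Scheme.Hom.appLE_comp_appLE _ _ U ⊤ ⊤ e' le_rfl, h3, Scheme.Hom.appLE]
    refine Eq.trans ?_ (Scheme.ΓSpecIso_inv_naturality (CommRingCat.ofHom
      (MvPolynomial.C : Γ(X, U) →+* MvPolynomial σ Γ(X, U)))).symm
    exact congrArg (_ ≫ ·) ((congrArg (_ ≫ ·) ((Spec (.of (MvPolynomial σ Γ(X, U)))).presheaf.map_id _)).trans (Category.comp_id _))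
  refine (ConcreteCategory.congr_hom h2 r).trans ?_
  show (Scheme.ΓSpecIso (.of (MvPolynomial σ Γ(X, U)))).inv (MvPolynomial.C r) = _
  rw [← hr]
  exact Iso.hom_inv_id_apply (Scheme.ΓSpecIso (.of (MvPolynomial σ Γ(X, U)))) _

variable (X σ) in
/-- The zero section. -/
def zeroSec : X ⟶ AffineSpace σ X := AffineSpace.homOfVector (𝟙 X) fun _ => 0

theorem zeroSec_over : zeroSec σ X ≫ (pr σ X) = 𝟙 X := AffineSpace.homOfVector_over _ _

theorem zero_preimage (U : X.Opens) : zeroSec σ X ⁻¹ᵁ ((pr σ X) ⁻¹ᵁ U) = U := by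
  rw [← Scheme.Hom.comp_preimage, zeroSec_over]; rfl

theorem app_zero (U : X.Opens) {W : (AffineSpace σ X).Opens} (h : W = (pr σ X) ⁻¹ᵁ U) (e : W ≤ (pr σ X) ⁻¹ᵁ U)
    {V : X.Opens} (e' : V ≤ zeroSec σ X ⁻¹ᵁ W) (hV : V ≤ U) (a : Γ(X, U)) :
    (zeroSec σ X).appLE W V e' ((pr σ X).appLE U W e a) = ores hV a := by
  rw [← CommRingCat.comp_apply, Scheme.Hom.appLE_comp_appLE]
  simp only [zeroSec_over]
  rw [Scheme.Hom.appLE, Scheme.Hom.id_app, Category.id_comp]

/-- A unit on the preimage of an open is the inverse image of its restriction to the zero section. -/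
theorem eq_pull [IsReduced X] (U : X.Opens) {t : Γ(AffineSpace σ X, (pr σ X) ⁻¹ᵁ U)} (ht : IsUnit t)
    {W : X.Opens} (e : (pr σ X) ⁻¹ᵁ U ≤ (pr σ X) ⁻¹ᵁ W) (e' : W ≤ zeroSec σ X ⁻¹ᵁ ((pr σ X) ⁻¹ᵁ U)) :
    (pr σ X).appLE W ((pr σ X) ⁻¹ᵁ U) e ((zeroSec σ X).appLE ((pr σ X) ⁻¹ᵁ U) W e' t) = t := by
  let V : {V : X.Opens // IsAffineOpen V ∧ V ≤ U} → (AffineSpace σ X).Opens := fun V => (pr σ X) ⁻¹ᵁ V.1
  have hcov : (pr σ X) ⁻¹ᵁ U ≤ iSup V := fun z hz => by
    obtain ⟨D, hD, hzD, hDU⟩ := exists_isAffineOpen_mem_and_subset (U := U) (x := (pr σ X) z) hz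
    exact Opens.mem_iSup.2 ⟨⟨D, hD, hDU⟩, hzD⟩
  refine (AffineSpace σ X).sheaf.eq_of_locally_eq' V ((pr σ X) ⁻¹ᵁ U)
    (fun D => homOfLE (((pr σ X)).preimage_mono D.2.2)) hcov _ _ fun D => ?_
  obtain ⟨a, ha⟩ := exists_const D.2.1 (t := ores (((pr σ X)).preimage_mono D.2.2) t) (ht.map _)
  have hDW : D.1 ≤ W := fun x hx => by
    have hx' : zeroSec σ X x ∈ (pr σ X) ⁻¹ᵁ U := by
      show x ∈ zeroSec σ X ⁻¹ᵁ ((pr σ X) ⁻¹ᵁ U)
      rw [zero_preimage]; exact D.2.2 hx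
    have := e hx'
    rw [show (zeroSec σ X x ∈ (pr σ X) ⁻¹ᵁ W) = (x ∈ zeroSec σ X ⁻¹ᵁ ((pr σ X) ⁻¹ᵁ W)) from rfl, zero_preimage] at this
    exact this
  have key : ores hDW ((zeroSec σ X).appLE ((pr σ X) ⁻¹ᵁ U) W e' t) = a := by
    have h1 : (zeroSec σ X).appLE ((pr σ X) ⁻¹ᵁ D.1) D.1 (zero_preimage D.1).ge (ores (((pr σ X)).preimage_mono D.2.2) t) =
        ores hDW ((zeroSec σ X).appLE ((pr σ X) ⁻¹ᵁ U) W e' t) := by
      show (((AffineSpace σ X).presheaf.map _ ≫ (zeroSec σ X).appLE _ _ _) t) =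
        ((zeroSec σ X).appLE _ _ _ ≫ X.presheaf.map _) t
      rw [Scheme.Hom.map_appLE, Scheme.Hom.appLE_map]
    rw [← h1, ← ha, Scheme.Hom.app_eq_appLE]
    exact (app_zero D.1 rfl le_rfl _ le_rfl a).trans (by rw [ores_id])
  show ores (((pr σ X)).preimage_mono D.2.2) ((pr σ X).appLE W ((pr σ X) ⁻¹ᵁ U) e _) = ores (((pr σ X)).preimage_mono D.2.2) t
  rw [← ha, ← key, Scheme.Hom.app_eq_appLE]
  show (((pr σ X)).appLE _ _ _ ≫ (AffineSpace σ X).presheaf.map _) _ = (X.presheaf.map _ ≫ ((pr σ X)).appLE _ _ _) _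
  rw [Scheme.Hom.appLE_map, Scheme.Hom.map_appLE]

/-- A module free on an open affine piece of an affine chart has a generator there. -/
theorem exists_gen_chart {Y : Scheme.{u}} {S A : CommRingCat.{u}} (j : Spec S ⟶ Y) [IsOpenImmersion j]
    (φ : S ⟶ A) [IsOpenImmersion (Spec.map φ)] {L : Y.Modules} {P : ModuleCat.{u} S}
    (a : (Scheme.Modules.pullback j).obj L ≅ tilde P)
    (d : letI := φ.hom.toAlgebra; Nonempty ((A : Type u) ⊗[S] P ≃ₗ[A] A)) :
    ∃ g : Γ(L, (Spec.map φ ≫ j) ''ᵁ ⊤), Twist.IsGen L ((Spec.map φ ≫ j) ''ᵁ ⊤) g := by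
  letI := φ.hom.toAlgebra
  obtain ⟨d⟩ := d
  obtain ⟨b'⟩ := PicAff14.pullback_tilde_iso φ P
  let l := Spec.map φ ≫ j
  let e : L.restrict l ≅ Coh.structureModule (Spec A) :=
    (Scheme.Modules.restrictFunctorIsoPullback l).app L ≪≫ ((ModLimH13.cmp (Spec.map φ) j rfl).app L).symm ≪≫
      (Scheme.Modules.pullback (Spec.map φ)).mapIso a ≪≫ b' ≪≫
      PicAff14.tildeIsoOfEquiv (N := ModuleCat.of A A)
        (M := ModuleCat.of A ((A : Type u) ⊗[S] P)) d ≪≫ tildeSelf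
  exact ⟨_, Pic18.isGen_image l L _ (ParaFDesc27.isGen_map_iso e.symm (ParaFDesc27.isGen_one (X := Spec A)))⟩

/-- Triviality over the local ring gives a generator over a neighbourhood. -/
theorem exists_gen_near {L : (AffineSpace σ X).Modules} (hL : PicF.IsInvertible L) (x : X)
    (h : Nonempty ((Scheme.Modules.pullback (AffineSpace.map σ (X.fromSpecStalk x))).obj L ≅
      Coh.structureModule (AffineSpace σ (Spec (X.presheaf.stalk x))))) :
    ∃ (U : X.Opens) (g : Γ(L, (pr σ X) ⁻¹ᵁ U)), x ∈ U ∧ Twist.IsGen L ((pr σ X) ⁻¹ᵁ U) g := by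
  obtain ⟨U, hU, hxU, -⟩ := exists_isAffineOpen_mem_and_subset (U := (⊤ : X.Opens)) (x := x) trivial
  let j := chart (σ := σ) hU
  obtain ⟨P, hP, ⟨a⟩⟩ := PicAff14.exists_invertible_tilde (PicLoc.isInvertible_pullback j hL)
  letI := TopCat.Presheaf.algebra_section_stalk X.presheaf ⟨x, hxU⟩
  haveI : IsLocalization.AtPrime (X.presheaf.stalk x) (hU.primeIdealOf ⟨x, hxU⟩).asIdeal :=
    hU.isLocalization_stalk ⟨x, hxU⟩
  let ψ : (CommRingCat.of (MvPolynomial σ Γ(X, U))) ⟶ CommRingCat.of (MvPolynomial σ (X.presheaf.stalk x)) :=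
    CommRingCat.ofHom (MvPolynomial.map (X.presheaf.germ U x hxU).hom)
  have hmap : AffineSpace.map σ (X.fromSpecStalk x) =
      (AffineSpace.SpecIso σ (X.presheaf.stalk x)).hom ≫ Spec.map ψ ≫ j := by
    rw [← hU.fromSpecStalk_eq_fromSpecStalk hxU, IsAffineOpen.fromSpecStalk, AffineSpace.map_comp,
      AffineSpace.map_SpecMap]
    simp only [Category.assoc]
    rfl
  obtain ⟨i⟩ := h
  obtain ⟨b⟩ := PicAff14.pullback_tilde_iso ψ P
  let T := (AffineSpace.SpecIso σ (X.presheaf.stalk x)).inv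
  have hT : T ≫ AffineSpace.map σ (X.fromSpecStalk x) = Spec.map ψ ≫ j := by
    rw [hmap, Iso.inv_hom_id_assoc]
  obtain ⟨c⟩ := PicAff14.linearEquiv_of_tilde_iso
    (b.symm ≪≫ (Scheme.Modules.pullback (Spec.map ψ)).mapIso a.symm ≪≫
      (ModLimH13.cmp (Spec.map ψ) j rfl).app L ≪≫ ((ModLimH13.cmp T _ hT).app L).symm ≪≫
      (Scheme.Modules.pullback T).mapIso i ≪≫ PicLoc.pullbackStructureIso T ≪≫ tildeSelf.symm)
  obtain ⟨f, hf, hd⟩ := exists_away (σ := σ) (hU.primeIdealOf ⟨x, hxU⟩).asIdeal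
    (Rp := X.presheaf.stalk x) (P := P) ⟨c⟩
  let A : CommRingCat.{u} := CommRingCat.of (Localization.Away (MvPolynomial.C f : MvPolynomial σ Γ(X, U)))
  let φ : CommRingCat.of (MvPolynomial σ Γ(X, U)) ⟶ A := CommRingCat.ofHom
    (algebraMap (MvPolynomial σ Γ(X, U)) (Localization.Away (MvPolynomial.C f : MvPolynomial σ Γ(X, U))))
  have hφ : letI := φ.hom.toAlgebra; IsLocalization.Away (MvPolynomial.C f : MvPolynomial σ Γ(X, U)) A := by
    convert (Localization.isLocalization : IsLocalization.Away (MvPolynomial.C f : MvPolynomial σ Γ(X, U))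
      (Localization.Away (MvPolynomial.C f : MvPolynomial σ Γ(X, U)))) using 1
    exact Algebra.algebra_ext _ _ fun _ => rfl
  haveI : IsOpenImmersion (Spec.map φ) :=
    IsOpenImmersion.of_isLocalization (R := MvPolynomial σ Γ(X, U))
      (S := Localization.Away (MvPolynomial.C f : MvPolynomial σ Γ(X, U))) (MvPolynomial.C f)
  let l := Spec.map φ ≫ j
  obtain ⟨g, hg⟩ := exists_gen_chart j φ a (by letI := φ.hom.toAlgebra; exact hd A)
  have hr : l ''ᵁ ⊤ = (pr σ X) ⁻¹ᵁ X.basicOpen f := by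
    rw [Scheme.Hom.image_top_eq_opensRange, Scheme.Hom.opensRange_comp]
    have h1 : (Spec.map φ).opensRange = j ⁻¹ᵁ ((pr σ X) ⁻¹ᵁ X.basicOpen f) := by
      rw [← Scheme.Hom.comp_preimage, chart_over, Scheme.Hom.comp_preimage, hU.fromSpec_preimage_basicOpen]
      ext1
      exact PrimeSpectrum.localization_away_comap_range _ (MvPolynomial.C f)
    rw [h1, Scheme.Hom.image_preimage_eq_opensRange_inf, opensRange_chart]
    exact inf_eq_right.2 (((pr σ X)).preimage_mono (X.basicOpen_le f))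
  refine ⟨X.basicOpen f, mres L hr.ge g, ?_, hg.mres hr.ge⟩
  have : hU.fromSpec (hU.primeIdealOf ⟨x, hxU⟩) = x := hU.fromSpec_primeIdealOf _
  rw [← this]
  show hU.primeIdealOf ⟨x, hxU⟩ ∈ hU.fromSpec ⁻¹ᵁ X.basicOpen f
  rw [hU.fromSpec_preimage_basicOpen]
  exact hf

theorem trivial_of_zero [IsReduced X] {L : (AffineSpace σ X).Modules}
    (h0 : Nonempty ((Scheme.Modules.pullback (zeroSec σ X)).obj L ≅ Coh.structureModule X))
    (hloc : ∀ x : X, ∃ (U : X.Opens) (g : Γ(L, (pr σ X) ⁻¹ᵁ U)), x ∈ U ∧ Twist.IsGen L ((pr σ X) ⁻¹ᵁ U) g) :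
    Nonempty (L ≅ Coh.structureModule (AffineSpace σ X)) := by
  choose U g hxU hg using hloc
  let s := zeroSec σ X
  let V : X → (AffineSpace σ X).Opens := fun x => (pr σ X) ⁻¹ᵁ U x
  have hV : iSup V = ⊤ := top_le_iff.1 fun z _ => Opens.mem_iSup.2 ⟨(pr σ X) z, hxU ((pr σ X) z)⟩
  have hW : (⨆ x, s ⁻¹ᵁ V x) = ⊤ := by rw [← Scheme.Hom.preimage_iSup, hV, Scheme.Hom.preimage_top]
  choose η hη using fun i j : X => (hg j (V i ⊓ V j) inf_le_right).2 (mres L inf_le_left (g i))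
  have hηu : ∀ i j, IsUnit (η i j) := fun i j => by
    obtain ⟨r, hr⟩ := (hg i (V i ⊓ V j) inf_le_left).2 (mres L inf_le_right (g j))
    refine IsUnit.of_mul_eq_one r ((hg i _ (inf_le_left : V i ⊓ V j ≤ V i)).1 ?_)
    show (η i j * r) • mres L _ (g i) = (1 : Γ(AffineSpace σ X, V i ⊓ V j)) • mres L _ (g i)
    rw [one_smul, mul_smul]
    exact (congrArg (η i j • ·) hr).trans (hη i j)
  obtain ⟨v, hv⟩ := (PicCoc15.nonempty_iso_iff (fun x => s ⁻¹ᵁ V x) hW _ _ _ _ (fun x => (hg x).pullback s)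
    (fun x => ParaFDesc27.isGen_one.mres le_top) (fun i j => s.app (V i ⊓ V j) (η i j)) (fun _ _ => 1)
    (fun i j => by
      have e := congrArg (M2.pullSec s L) (hη i j).symm
      rw [PicDesc21.pullSec_mres, M2.pullSec_smul, PicDesc21.pullSec_mres] at e
      exact e)
    (fun i j => by rw [one_smul, mres_mres, mres_mres])).1 h0
  have hle : ∀ i, V i ≤ (pr σ X) ⁻¹ᵁ (s ⁻¹ᵁ V i) := fun i => by
    show (pr σ X) ⁻¹ᵁ U i ≤ (pr σ X) ⁻¹ᵁ (s ⁻¹ᵁ ((pr σ X) ⁻¹ᵁ U i))
    rw [zero_preimage]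
  let u : ∀ i, (Γ(AffineSpace σ X, V i))ˣ := fun i =>
    Units.map (((pr σ X)).appLE (s ⁻¹ᵁ V i) (V i) (hle i)).hom.toMonoidHom (v i)
  refine (PicCoc15.nonempty_iso_iff V hV L _ g _ hg (fun x => ParaFDesc27.isGen_one.mres le_top) η
    (fun _ _ => 1) (fun i j => (hη i j).symm) (fun i j => by rw [one_smul, mres_mres, mres_mres])).2 ⟨u, fun i j => ?_⟩
  let O : X.Opens := U i ⊓ U j
  let W : X.Opens := s ⁻¹ᵁ ((pr σ X) ⁻¹ᵁ O)
  have eO : (pr σ X) ⁻¹ᵁ O ≤ (pr σ X) ⁻¹ᵁ W := by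
    show (pr σ X) ⁻¹ᵁ O ≤ (pr σ X) ⁻¹ᵁ (s ⁻¹ᵁ ((pr σ X) ⁻¹ᵁ O))
    rw [zero_preimage]
  have hl : IsUnit (ores (inf_le_left : V i ⊓ V j ≤ V i) (u i).1) := (u i).isUnit.map _
  have hr : IsUnit (ores (inf_le_right : V i ⊓ V j ≤ V j) (u j).1 * η i j) :=
    ((u j).isUnit.map _).mul (hηu i j)
  have e₁ := eq_pull O (t := ores (inf_le_left : V i ⊓ V j ≤ V i) (u i).1) hl eO le_rfl
  have e₂ := eq_pull O (t := ores (inf_le_right : V i ⊓ V j ≤ V j) (u j).1 * η i j) hr eO le_rfl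
  rw [one_mul]
  refine e₁.symm.trans ((congrArg _ ?_).trans e₂)
  have hs : ∀ (k : X) (h : V i ⊓ V j ≤ V k), s.appLE ((pr σ X) ⁻¹ᵁ O) W le_rfl (ores h (u k).1) =
      ores (s.preimage_mono h) (v k).1 := fun k h => by
    show ((((pr σ X)).appLE _ _ (hle k) ≫ (AffineSpace σ X).presheaf.map _) ≫ s.appLE _ _ _) (v k).1 = _
    erw [Scheme.Hom.appLE_map, Scheme.Hom.appLE_comp_appLE]
    simp only [s, zeroSec_over]
    simp only [Scheme.Hom.appLE, Scheme.Hom.id_app, Category.id_comp]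
    rfl
  rw [map_mul, hs i inf_le_left, hs j inf_le_right]
  have := hv i j
  rw [one_mul] at this
  refine this.trans (congrArg (_ * ·) ?_)
  rw [Scheme.Hom.app_eq_appLE]
  rfl

end Groth.Agent.PicAffSp12

end
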